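import Cfsg.Agent.Lib.Classical.GeoFour.OrthFour.Basic

/-!
# A transvection and the similarities of determinant one generate `SL`
-/

set_option autoImplicit false
set_option linter.unusedSectionVars false
set_option backward.isDefEq.respectTransparency false

open Module Matrix

namespace CfsgLib.Classical.GeoFour.OrthFour

open SimMax (polar_symm polar_self' map_add_smul gsieg gsieg_mulVec bv bv_dot Has)

variable {ι : Type} [Fintype ι] [DecidableEq ι] {F : Type*} [Field F] [Fintype F]
variable {Q : QuadraticForm F (ι → F)} {M : Subgroup (GL ι F)}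

local notation "B" => QuadraticMap.polarBilin Q

variable (hQ : (QuadraticMap.polarBilin Q).Nondegenerate) (h2 : (2 : F) ≠ 0) (hH : SimMem Q M)
include hQ h2 hH

/-- The centre can be made non-singular. -/
theorem exists_has_aniso (hn : 3 ≤ Fintype.card ι) {a₀ b₀ : ι → F} (h₀ : Has Q M a₀ b₀) (ha₀ : a₀ ≠ 0)
    (hb₀ : b₀ ≠ 0) : ∃ a b, Has Q M a b ∧ Q a ≠ 0 ∧ b ≠ 0 := by
  by_cases hQa : Q a₀ = 0
  swap
  · exact ⟨a₀, b₀, h₀, hQa, hb₀⟩
  have haa : B a₀ a₀ = 0 := by rw [polar_self', hQa, mul_zero]
  obtain ⟨y, hy⟩ : ∃ y, B a₀ y = 1 := by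
    obtain ⟨d, -, hd⟩ := exists_singular_pair hQ h2 hn ha₀
    exact ⟨d, hd⟩
  obtain ⟨l, hl, hla⟩ : ∃ l : F, l ≠ 0 ∧ Has Q M a₀ (l • a₀) := by
    by_cases hmul : ∃ l : F, b₀ = l • a₀
    · obtain ⟨l, rfl⟩ := hmul
      exact ⟨l, fun e => hb₀ (by rw [e, zero_smul]), h₀⟩
    obtain ⟨u, hu, hub⟩ : ∃ u, B a₀ u = 0 ∧ B b₀ u ≠ 0 := by
      by_contra hc
      push Not at hc
      refine hmul ⟨B b₀ y, sub_eq_zero.1 (hQ.1 _ fun z => ?_)⟩
      have h := hc (z - B a₀ z • y) (by rw [map_sub, map_smul, hy, smul_eq_mul, mul_one, sub_self])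
      rw [map_sub, map_smul, smul_eq_mul] at h
      rw [map_sub, LinearMap.sub_apply, map_smul, LinearMap.smul_apply, smul_eq_mul]
      linear_combination h
    have h' := gsieg_map_has hH h₀ hQa hu
    rw [haa, polar_symm Q u a₀, hu, zero_smul, mul_zero, zero_smul, add_zero, sub_zero, sub_zero,
      polar_symm Q a₀ b₀, h₀.perp, zero_smul, mul_zero, zero_smul, add_zero, sub_zero] at h'
    have h'' := (h'.add h₀.neg).neg
    refine ⟨B u b₀, by rwa [polar_symm Q u b₀], ?_⟩
    rwa [show -(b₀ - B u b₀ • a₀ + -b₀) = B u b₀ • a₀ by abel] at h''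
  -- move the centre off its perpendicular hyperplane
  obtain ⟨d, hdQ, had⟩ := exists_singular_pair hQ h2 hn ha₀
  have hd0 : d ≠ 0 := fun e => one_ne_zero (α := F) (by rw [← had, e, map_zero])
  obtain ⟨u, hdu, huQ⟩ := exists_perp_aniso hQ h2 hn hd0
  set s := gsieg Q d u hdQ hdu
  set c := (s : Matrix ι ι F) *ᵥ a₀ with hc
  have hcQ : Q c = 0 := by rw [hc, gsieg_isometry, hQa]
  have hac : B a₀ c = -Q u := by
    rw [hc, gsieg_mulVec hdQ hdu]
    simp only [map_sub, map_add, map_smul, smul_eq_mul, haa, polar_symm Q d a₀, had, polar_symm Q u a₀]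
    ring
  have hcne : B a₀ c ≠ 0 := by rw [hac]; exact neg_ne_zero.2 huQ
  have hbc : Has Q M c (l • c) := by
    have := hla.map (hH.gsieg_mem hdQ hdu) (SimMax.isometry_polar Q (gsieg_isometry hdQ hdu))
    rwa [mulVec_smul, ← hc] at this
  obtain ⟨h0, hm⟩ := hla
  obtain ⟨h0c, hmc⟩ := hbc
  set T := trGL a₀ (bv Q (l • a₀)) h0
  have hT : ∀ x, (T : Matrix ι ι F) *ᵥ x = x + (l * B a₀ x) • a₀ := fun x => by
    rw [trGL_mulVec, bv_dot, map_smul, LinearMap.smul_apply, smul_eq_mul]
  clear_value c
  set a' := c + (l * B a₀ c) • a₀ with ha'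
  set b' := l • (c - (l * B a₀ c) • a₀) with hb'
  have hab' : bv Q b' ⬝ᵥ a' = 0 := by
    rw [bv_dot, hb', ha']
    simp only [map_add, map_sub, map_smul, LinearMap.smul_apply, LinearMap.sub_apply, smul_eq_mul,
      polar_symm Q c a₀, polar_self', hcQ, hQa]
    ring
  refine ⟨a', b', ⟨hab', ?_⟩, ?_, ?_⟩
  · rw [← SimMax.conj_eq_trGL (g := T) (h := h0c) (fun x => by
      rw [hT, hT, bv_dot, bv_dot, hb']
      simp only [map_add, map_sub, map_smul, LinearMap.smul_apply, LinearMap.sub_apply, smul_eq_mul,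
        polar_symm Q c a₀, polar_self', hQa]
      rw [← ha']
      congr 1
      ring)]
    exact mul_mem (mul_mem hm hmc) (inv_mem hm)
  · rw [ha', map_add_smul, hcQ, hQa, polar_symm Q c a₀]
    simp only [mul_zero, zero_add, add_zero]
    exact mul_ne_zero (mul_ne_zero hl hcne) hcne
  · intro e
    have h := congrArg (B a₀) e
    rw [hb', map_smul, map_sub, map_smul, haa, map_zero, smul_zero, sub_zero, smul_eq_mul] at h
    exact mul_ne_zero hl hcne h

/-- For a non-singular centre all axes occur. -/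
theorem full_of_aniso (hn : Fintype.card ι = 4) {a b : ι → F} (hab : Has Q M a b) (ha : Q a ≠ 0) (hb : b ≠ 0) :
    Full M a ∧ ∃ d e u, Q d = 0 ∧ Q e = 0 ∧ B d e = 1 ∧ Q u ≠ 0 ∧ B a d = 0 ∧ B a e = 0 ∧ B a u = 0 ∧ B d u = 0 ∧
      B e u = 0 := by
  classical
  have hN : finrank F (ι → F) = 4 := by rw [Module.finrank_fintype_fun_eq_card, hn]
  have haa : B a a ≠ 0 := by rw [polar_self']; exact mul_ne_zero h2 ha
  have hba : B a b = 0 := by rw [polar_symm]; exact hab.perp
  -- a singular vector of the hyperplane, not orthogonal to `b`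
  have hrad : finrank F ↥(SimMax.perp Q ![a] ⊓ LinearMap.BilinForm.orthogonal B (SimMax.perp Q ![a])) + 3 ≤
      finrank F (SimMax.perp Q ![a]) := by
    have hbot : SimMax.perp Q ![a] ⊓ LinearMap.BilinForm.orthogonal B (SimMax.perp Q ![a]) = ⊥ := by
      refine (Submodule.eq_bot_iff _).2 fun x hx => hQ.1 x fun y => ?_
      have h := hx.2 (y - (B a y / B a a) • a) ((SimMax.mem_perp Q).2 fun i => by
        fin_cases i
        show B a (y - (B a y / B a a) • a) = 0
        rw [map_sub, map_smul, smul_eq_mul, div_mul_cancel₀ _ haa, sub_self])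
      have hxa : B a x = 0 := by simpa using (SimMax.mem_perp Q).1 hx.1 0
      change B (y - (B a y / B a a) • a) x = 0 at h
      rw [map_sub, map_smul, LinearMap.sub_apply, LinearMap.smul_apply, hxa, smul_zero, sub_zero] at h
      rw [polar_symm]; exact h
    have := SimMax.finrank_perp_ge Q ![a]
    rw [hbot, finrank_bot]
    omega
  obtain ⟨y, hy, hby⟩ : ∃ y ∈ SimMax.perp Q ![a], B b y ≠ 0 := by
    by_contra hc
    push Not at hc
    refine hb (hQ.1 b fun z => ?_)
    have h := hc (z - (B a z / B a a) • a) ((SimMax.mem_perp Q).2 fun i => by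
      fin_cases i
      show B a (z - (B a z / B a a) • a) = 0
      rw [map_sub, map_smul, smul_eq_mul, div_mul_cancel₀ _ haa, sub_self])
    rwa [map_sub, map_smul, polar_symm Q b a, hba, smul_zero, sub_zero] at h
  obtain ⟨d, hd, hdQ, hbd⟩ := SimMax.exists_singular_outside' hQ h2 hrad (f := B b) ⟨y, hy, hby⟩
  have had : B a d = 0 := by simpa using (SimMax.mem_perp Q).1 hd 0
  have hd0 : d ≠ 0 := fun e => hbd (by rw [e, map_zero])
  have hdd : B d d = 0 := by rw [polar_self', hdQ, mul_zero]
  -- its partner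
  obtain ⟨e, heQ, hde, hae⟩ : ∃ e, Q e = 0 ∧ B d e = 1 ∧ B a e = 0 := by
    obtain ⟨w, -, hdw⟩ := exists_singular_pair hQ h2 (by omega) hd0
    set w' := w - (B a w / B a a) • a with hw'
    have hdw' : B d w' = 1 := by
      rw [hw', map_sub, map_smul, polar_symm Q d a, had, smul_zero, sub_zero, hdw]
    have haw' : B a w' = 0 := by rw [hw', map_sub, map_smul, smul_eq_mul, div_mul_cancel₀ _ haa, sub_self]
    refine ⟨w' + (-Q w') • d, ?_, ?_, ?_⟩
    · rw [map_add_smul, hdQ, polar_symm Q w' d, hdw']; ring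
    · rw [map_add, map_smul, hdd, smul_zero, add_zero, hdw']
    · rw [map_add, map_smul, haw', had, smul_zero, add_zero]
  have hed : B e d = 1 := by rw [polar_symm, hde]
  have hee : B e e = 0 := by rw [polar_self', heQ, mul_zero]
  set W := SimMax.perp Q ![a, d, e]
  have hW : ∀ {x}, x ∈ W → B a x = 0 ∧ B d x = 0 ∧ B e x = 0 := fun {x} hx => by
    simpa [W, SimMax.mem_perp, Fin.forall_fin_succ] using hx
  obtain ⟨u, hu, huQ⟩ : ∃ u ∈ W, Q u ≠ 0 := by
    by_contra hc
    push Not at hc
    have : W ≤ ⊥ := fun x hx => (Submodule.mem_bot F).2 (hQ.1 x fun y => by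
      obtain ⟨h1, h2', h3⟩ := hW hx
      have hy' : y - (B a y / B a a) • a - B e y • d - B d y • e ∈ W := (SimMax.mem_perp Q).2 fun i => by
        fin_cases i <;> simp only [map_sub, map_smul, smul_eq_mul, polar_symm Q d a, polar_symm Q e a]
        · show B a y - B a y / B a a * B a a - B e y * B a d - B d y * B a e = 0
          rw [had, hae, div_mul_cancel₀ _ haa]; ring
        · show B d y - B a y / B a a * B d a - B e y * B d d - B d y * B d e = 0
          rw [polar_symm Q d a, had, hdd, hde]; ring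
        · show B e y - B a y / B a a * B e a - B e y * B e d - B d y * B e e = 0
          rw [polar_symm Q e a, hae, hed, hee]; ring
      have h0 := polar_eq_zero_of_singular h2 (W := W) hc hx hy'
      rw [map_sub, map_sub, map_sub, map_smul, map_smul, map_smul, polar_symm Q x a, h1, polar_symm Q x d, h2',
        polar_symm Q x e, h3, smul_zero, smul_zero, smul_zero, sub_zero, sub_zero, sub_zero] at h0
      exact h0)
    have h1 := Submodule.finrank_mono this
    have := SimMax.finrank_perp_ge Q ![a, d, e]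
    have h5 : finrank F ↥(SimMax.perp Q ![a, d, e]) = finrank F W := rfl
    rw [finrank_bot] at h1
    omega
  obtain ⟨hau, hdu, heu⟩ := hW hu
  refine ⟨?_, d, e, u, hdQ, heQ, hde, huQ, had, hae, hau, hdu, heu⟩
  -- the set of axes
  let L : AddSubgroup (ι → F) :=
    { carrier := {x | Has Q M a x}
      zero_mem' := SimMax.has_zero a
      add_mem' := fun h h' => h.add h'
      neg_mem' := fun h => h.neg }
  have hinv : ∀ {d' v : ι → F} (hd' : Q d' = 0) (hv : B d' v = 0), B a d' = 0 → B a v = 0 → ∀ x ∈ L,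
      x + B d' x • v - B v x • d' - (Q v * B d' x) • d' ∈ L := fun {d' v} hd' hv hd'a hva x hx => by
    have h := gsieg_map_has hH (show Has Q M a x from hx) hd' hv
    rw [polar_symm Q d' a, hd'a, polar_symm Q v a, hva, zero_smul, mul_zero, zero_smul, add_zero, sub_zero,
      sub_zero] at h
    exact h
  have hline : ∀ {d' v x : ι → F}, Q d' = 0 → B a d' = 0 → B a v = 0 → B d' v = 0 → Q v ≠ 0 → x ∈ L →
      B d' x ≠ 0 → ∀ c : F, c • d' ∈ L := by
    intro d' v x hd' hd'a hva hv hvQ hx hx' c
    set K := -2 * Q v * B d' x with hK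
    have hK0 : K ≠ 0 := mul_ne_zero (mul_ne_zero (neg_ne_zero.2 h2) hvQ) hx'
    have hsq : ∀ t : F, (t * t * K) • d' ∈ L := fun t => by
      have e1 := hinv hd' (v := t • v) (by rw [map_smul, hv, smul_zero]) hd'a (by rw [map_smul, hva, smul_zero]) x hx
      have e2 := hinv hd' (v := -(t • v)) (by rw [map_neg, map_smul, hv, smul_zero, neg_zero]) hd'a
        (by rw [map_neg, map_smul, hva, smul_zero, neg_zero]) x hx
      have e3 := L.sub_mem (L.add_mem e1 e2) (L.add_mem hx hx)
      convert e3 using 1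
      simp only [hK, QuadraticMap.map_neg, QuadraticMap.map_smul, map_neg, map_smul, LinearMap.neg_apply,
        LinearMap.smul_apply, smul_eq_mul]
      module
    have e := L.sub_mem (hsq ((c / K + 1) / 2)) (hsq ((c / K - 1) / 2))
    convert e using 1
    rw [← sub_smul]
    congr 1
    field_simp
    ring
  have hd_all : ∀ c : F, c • d ∈ L := hline hdQ had hau hdu huQ hab (by rw [polar_symm]; exact hbd)
  have he_all : ∀ c : F, c • e ∈ L := hline heQ hae hau heu huQ (hd_all 1) (by rw [one_smul, hed]; exact one_ne_zero)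
  set ζ := e + u - Q u • d with hζ
  have hζQ : Q ζ = 0 := by
    have e1 : Q (e + u) = Q u := by
      have := map_add_smul Q e u 1
      rw [one_smul, heQ, heu] at this
      rw [this]; ring
    rw [hζ, sub_eq_add_neg, ← neg_smul, map_add_smul, hdQ, e1, map_add, LinearMap.add_apply, hed,
      polar_symm Q u d, hdu]
    ring
  have hζd : B ζ d = 1 := by
    rw [hζ, map_sub, map_add, map_smul, LinearMap.sub_apply, LinearMap.add_apply, LinearMap.smul_apply, hed, hdd,
      polar_symm Q u d, hdu]
    simp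
  have hζ_all : ∀ c : F, c • ζ ∈ L := by
    refine hline (v := u - (2 * Q u) • d) hζQ ?_ ?_ ?_ ?_ (hd_all 1) (by rw [one_smul, hζd]; exact one_ne_zero)
    · rw [hζ, map_sub, map_add, map_smul, hae, hau, had]; simp
    · rw [map_sub, map_smul, hau, had]; simp
    · rw [hζ]
      simp only [map_sub, map_add, map_smul, LinearMap.sub_apply, LinearMap.add_apply, LinearMap.smul_apply,
        smul_eq_mul, hed, hdd, hdu, heu, polar_symm Q u d, polar_self' Q u]
      ring
    · rw [sub_eq_add_neg, ← neg_smul, map_add_smul, hdQ, polar_symm Q u d, hdu]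
      simpa using huQ
  have hu_all : ∀ c : F, c • u ∈ L := fun c => by
    have := L.add_mem (L.sub_mem (hζ_all c) (he_all c)) (hd_all (c * Q u))
    convert this using 1
    rw [hζ]; module
  intro f hf
  obtain ⟨β, hβ⟩ : ∃ β, ∀ x, B β x = f ⬝ᵥ x :=
    ⟨(LinearMap.BilinForm.toDual B hQ).symm ((dotProductBilin F F) f), fun x =>
      LinearMap.BilinForm.apply_toDual_symm_apply (hB := hQ) ((dotProductBilin F F) f) x⟩
  have hβa : B a β = 0 := by rw [polar_symm, hβ, hf]
  have hspan : β = (B e β) • d + (B d β) • e + (B u β / B u u) • u := by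
    have huu : B u u ≠ 0 := by rw [polar_self']; exact mul_ne_zero h2 huQ
    refine sub_eq_zero.1 ?_
    set r := β - ((B e β) • d + (B d β) • e + (B u β / B u u) • u) with hr
    have r1 : B a r = 0 := by
      rw [hr]; simp only [map_sub, map_add, map_smul, smul_eq_mul, hβa, had, hae, hau]; ring
    have r2 : B d r = 0 := by
      rw [hr]; simp only [map_sub, map_add, map_smul, smul_eq_mul, hdd, hde, hdu]; ring
    have r3 : B e r = 0 := by
      rw [hr]; simp only [map_sub, map_add, map_smul, smul_eq_mul, hed, hee, heu]; ring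
    have r4 : B u r = 0 := by
      rw [hr]; simp only [map_sub, map_add, map_smul, smul_eq_mul, polar_symm Q u d, hdu, polar_symm Q u e, heu]
      field_simp
      ring
    clear_value r
    let p : Fin 4 → ι → F := ![a, d, e, u]
    have hli : LinearIndependent F p := by
      rw [Fintype.linearIndependent_iff]
      intro g hg i
      simp only [p, Fin.sum_univ_four, Matrix.cons_val] at hg
      have ga := congrArg (B a) hg
      have gd := congrArg (B d) hg
      have ge := congrArg (B e) hg
      have gu := congrArg (B u) hg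
      simp only [map_add, map_smul, map_zero, smul_eq_mul, had, hae, hau, hdd, hde, hdu, hed, hee, heu,
        polar_symm Q d a, polar_symm Q e a, polar_symm Q u a, polar_symm Q u d, polar_symm Q u e, mul_zero,
        mul_one, add_zero, zero_add] at ga gd ge gu
      fin_cases i
      · exact (mul_eq_zero.1 ga).resolve_right haa
      · exact ge
      · exact gd
      · exact (mul_eq_zero.1 gu).resolve_right huu
    have htop : Submodule.span F (Set.range p) = ⊤ :=
      hli.span_eq_top_of_card_eq_finrank (by rw [Fintype.card_fin, hN])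
    refine hQ.1 r fun z => ?_
    have hz : z ∈ Submodule.span F (Set.range p) := htop ▸ Submodule.mem_top
    induction hz using Submodule.span_induction with
    | mem x hx =>
      obtain ⟨i, rfl⟩ := hx
      rw [polar_symm]
      fin_cases i <;> assumption
    | zero => exact map_zero _
    | add x y _ _ hx hy => rw [map_add, hx, hy, add_zero]
    | smul k x _ hx => rw [map_smul, hx, smul_zero]
  obtain ⟨hh, hm⟩ : Has Q M a β := by
    show β ∈ L
    rw [hspan]
    exact L.add_mem (L.add_mem (hd_all _) (he_all _)) (hu_all _)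
  convert hm using 1
  exact Units.ext (Matrix.ext_iff_mulVec.2 fun x => by rw [trGL_mulVec, trGL_mulVec, bv_dot, hβ])

/-- A transvection generates `SL` together with the similarities. -/
theorem sl_le_of_has (hn : Fintype.card ι = 4) {a₀ b₀ : ι → F} (h₀ : Has Q M a₀ b₀) (ha₀ : a₀ ≠ 0)
    (hb₀ : b₀ ≠ 0) : Cfsg.Geo.specialLinear ι F ≤ M := by
  obtain ⟨a, b, hab, ha, hb⟩ := exists_has_aniso hQ h2 hH (by omega) h₀ ha₀ hb₀
  obtain ⟨hfull, d, e, u, hdQ, heQ, hde, huQ, had, hae, hau, hdu, heu⟩ := full_of_aniso hQ h2 hH hn hab ha hb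
  refine sl_le_of_fullCentres ?_
  set W := fullCentres M
  have haW : a ∈ W := hfull
  -- the differences under Siegel elements
  have hdiff : ∀ {d' v : ι → F} (hd' : Q d' = 0) (hv : B d' v = 0) {x : ι → F}, x ∈ W →
      B d' x • v - B v x • d' - (Q v * B d' x) • d' ∈ W := fun {d' v} hd' hv {x} hx => by
    have h : (gsieg Q d' v hd' hv : Matrix ι ι F) *ᵥ x ∈ W := Full.map hx (hH.gsieg_mem hd' hv)
    rw [gsieg_mulVec hd' hv] at h
    have := W.sub_mem h hx
    rwa [show x + B d' x • v - B v x • d' - (Q v * B d' x) • d' - x =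
      B d' x • v - B v x • d' - (Q v * B d' x) • d' by abel] at this
  -- both signs of `v`
  have hboth : ∀ {d' v : ι → F} (hd' : Q d' = 0) (hv : B d' v = 0) {x : ι → F}, x ∈ W → B v x = 0 → B d' x ≠ 0 →
      Q v ≠ 0 → d' ∈ W ∧ v ∈ W := fun {d' v} hd' hv {x} hx hvx hdx hvQ => by
    have e1 := hdiff hd' hv hx
    have e2 := hdiff hd' (v := -v) (by rw [map_neg, hv, neg_zero]) hx
    rw [hvx, zero_smul, sub_zero] at e1
    rw [map_neg, LinearMap.neg_apply, hvx, neg_zero, zero_smul, sub_zero, QuadraticMap.map_neg] at e2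
    have hd : d' ∈ W := by
      have h := W.add_mem e1 e2
      rw [show B d' x • v - (Q v * B d' x) • d' + (B d' x • -v - (Q v * B d' x) • d') =
        (-(2 * Q v * B d' x)) • d' by module] at h
      exact (Submodule.smul_mem_iff W (neg_ne_zero.2 (mul_ne_zero (mul_ne_zero h2 hvQ) hdx))).1 h
    refine ⟨hd, (Submodule.smul_mem_iff W hdx).1 ?_⟩
    have h := W.add_mem e1 (W.smul_mem (Q v * B d' x) hd)
    rwa [sub_add_cancel] at h
  have hQa : Q a ≠ 0 := ha
  set x₀ := a + d - Q a • e with hx₀
  have hx₀Q : Q x₀ = 0 := by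
    have e1 : Q (a + d) = Q a := by
      have := map_add_smul Q a d 1
      rw [one_smul, hdQ, had] at this
      rw [this]; ring
    rw [hx₀, sub_eq_add_neg, ← neg_smul, map_add_smul, heQ, e1, map_add, LinearMap.add_apply, hae, hde]
    ring
  have hx₀u : B x₀ u = 0 := by
    rw [hx₀]; simp [map_sub, map_add, map_smul, hau, hdu, heu]
  have hx₀a : B x₀ a ≠ 0 := by
    rw [hx₀]
    simp only [map_sub, map_add, map_smul, LinearMap.sub_apply, LinearMap.add_apply, LinearMap.smul_apply,
      polar_self', polar_symm Q d a, polar_symm Q e a, had, hae, smul_zero, add_zero, sub_zero]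
    exact mul_ne_zero h2 hQa
  obtain ⟨hxW, huW⟩ := hboth hx₀Q hx₀u haW (by rw [polar_symm]; exact hau) hx₀a huQ
  have hyW : d - Q a • e ∈ W := by
    have := W.sub_mem hxW haW
    rwa [hx₀, show a + d - Q a • e - a = d - Q a • e by abel] at this
  have huy : B u (d - Q a • e) = 0 := by
    rw [map_sub, map_smul, polar_symm Q u d, hdu, polar_symm Q u e, heu]; simp
  have hdy : B d (d - Q a • e) ≠ 0 := by
    rw [map_sub, map_smul, polar_self', hdQ, hde, mul_zero, zero_sub, smul_eq_mul, mul_one]
    exact neg_ne_zero.2 hQa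
  obtain ⟨hdW, -⟩ := hboth hdQ hdu hyW huy hdy huQ
  have heW : e ∈ W := by
    refine (Submodule.smul_mem_iff W hQa).1 ?_
    have := W.sub_mem hdW hyW
    rwa [sub_sub_cancel] at this
  let p : Fin 4 → ι → F := ![a, d, e, u]
  have hN : finrank F (ι → F) = 4 := by rw [Module.finrank_fintype_fun_eq_card, hn]
  have hli : LinearIndependent F p := by
    rw [Fintype.linearIndependent_iff]
    intro g hg i
    simp only [p, Fin.sum_univ_four, Matrix.cons_val] at hg
    have ga := congrArg (B a) hg
    have gd := congrArg (B d) hg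
    have ge := congrArg (B e) hg
    have gu := congrArg (B u) hg
    simp only [map_add, map_smul, map_zero, smul_eq_mul, had, hae, hau, hdu, heu, hde, polar_symm Q e d,
      polar_symm Q d a, polar_symm Q e a, polar_symm Q u a, polar_symm Q u d, polar_symm Q u e, polar_self', hdQ,
      heQ, mul_zero, mul_one, add_zero, zero_add] at ga gd ge gu
    fin_cases i
    · exact (mul_eq_zero.1 ga).resolve_right (mul_ne_zero h2 hQa)
    · exact ge
    · exact gd
    · exact (mul_eq_zero.1 gu).resolve_right (mul_ne_zero h2 huQ)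
  rw [eq_top_iff, ← hli.span_eq_top_of_card_eq_finrank (by rw [Fintype.card_fin, hN]), Submodule.span_le]
  rintro _ ⟨i, rfl⟩
  fin_cases i <;> assumption

end CfsgLib.Classical.GeoFour.OrthFour
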