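import Cfsg.Agent.Lib.Classical.GeoFour.OrthFour.Zeros

/-!
# A non-similarity together with the similarities of determinant one gives a transvection
-/

set_option autoImplicit false
set_option linter.unusedSectionVars false
set_option backward.isDefEq.respectTransparency false

open Module Matrix

namespace CfsgLib.Classical.GeoFour.OrthFour

open SimMax (polar_symm polar_self' map_add_smul gsieg gsieg_mulVec bv bv_dot Has)

variable {ι : Type} [Fintype ι] [DecidableEq ι] {F : Type*} [Field F] [Fintype F]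
variable {Q : QuadraticForm F (ι → F)} {M : Subgroup (GL ι F)}

local notation "B" => QuadraticMap.polarBilin Q

variable (Q) in
/-- The form moved by `g`. -/
noncomputable def moved (g : GL ι F) : QuadraticForm F (ι → F) :=
  Q.comp (Matrix.toLin' ((g⁻¹ : GL ι F) : Matrix ι ι F))

theorem moved_apply (g : GL ι F) (x : ι → F) :
    moved Q g x = Q (((g⁻¹ : GL ι F) : Matrix ι ι F) *ᵥ x) := rfl

theorem moved_polar (g : GL ι F) (x y : ι → F) : QuadraticMap.polarBilin (moved Q g) x y =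
    B (((g⁻¹ : GL ι F) : Matrix ι ι F) *ᵥ x) (((g⁻¹ : GL ι F) : Matrix ι ι F) *ᵥ y) := by
  simp [moved, QuadraticMap.polarBilin_apply_apply, QuadraticMap.polar, mulVec_add]

theorem mul_inv_mulVec (g : GL ι F) (x : ι → F) :
    (g : Matrix ι ι F) *ᵥ (((g⁻¹ : GL ι F) : Matrix ι ι F) *ᵥ x) = x := by
  rw [mulVec_mulVec, ← Units.val_mul, mul_inv_cancel, Units.val_one, one_mulVec]

theorem inv_mul_mulVec (g : GL ι F) (x : ι → F) :
    ((g⁻¹ : GL ι F) : Matrix ι ι F) *ᵥ ((g : Matrix ι ι F) *ᵥ x) = x := by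
  rw [mulVec_mulVec, ← Units.val_mul, inv_mul_cancel, Units.val_one, one_mulVec]

variable (hQ : (QuadraticMap.polarBilin Q).Nondegenerate) (h2 : (2 : F) ≠ 0)
include hQ h2

omit h2 in
theorem moved_nondegenerate (g : GL ι F) : (QuadraticMap.polarBilin (moved Q g)).Nondegenerate := by
  have key : ∀ x, (∀ y, QuadraticMap.polarBilin (moved Q g) x y = 0) → x = 0 := fun x hx => by
    have h0 : ((g⁻¹ : GL ι F) : Matrix ι ι F) *ᵥ x = 0 := hQ.1 _ fun y => by
      have := hx ((g : Matrix ι ι F) *ᵥ y)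
      rwa [moved_polar, inv_mul_mulVec] at this
    rw [← mul_inv_mulVec g x, h0, mulVec_zero]
  exact ⟨key, fun y hy => key y fun x => (polar_symm (moved Q g) y x).trans (hy x)⟩

variable (hH : SimMem Q M) {g : GL ι F} (hg : g ∈ M)
include hH hg

omit h2 in
/-- The commutator of two Siegel elements at a common singular vector. -/
theorem has_of_commutator {p u v : ι → F} (hp0 : p ≠ 0) (hp : Q p = 0) (hp' : moved Q g p = 0) (hpu : B p u = 0)
    (hpv : B p v = 0) (hpu' : QuadraticMap.polarBilin (moved Q g) p u = 0)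
    (hpv' : QuadraticMap.polarBilin (moved Q g) p v = 0)
    (hne : ∃ x, QuadraticMap.polarBilin (moved Q g) u v * B p x -
      B u v * QuadraticMap.polarBilin (moved Q g) p x ≠ 0) :
    ∃ a b, Has Q M a b ∧ a ≠ 0 ∧ b ≠ 0 := by
  set Q' := moved Q g with hQ'
  set Gi := ((g⁻¹ : GL ι F) : Matrix ι ι F) with hGi
  have hgpQ : Q (Gi *ᵥ p) = 0 := hp'
  have hgv : B (Gi *ᵥ p) (Gi *ᵥ v) = 0 := by rw [← moved_polar]; exact hpv'
  set s₁ := gsieg Q p u hp hpu
  set s₂ := g * gsieg Q (Gi *ᵥ p) (Gi *ᵥ v) hgpQ hgv * g⁻¹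
  have hs₁ : s₁ ∈ M := hH.gsieg_mem hp hpu
  have hs₂ : s₂ ∈ M := mul_mem (mul_mem hg (hH.gsieg_mem hgpQ hgv)) (inv_mem hg)
  have hm1 : ∀ x, (s₁ : Matrix ι ι F) *ᵥ x = x + B p x • u - B u x • p - (Q u * B p x) • p :=
    gsieg_mulVec hp hpu
  have hm2 : ∀ x, (s₂ : Matrix ι ι F) *ᵥ x = x + QuadraticMap.polarBilin Q' p x • v -
      QuadraticMap.polarBilin Q' v x • p - (Q' v * QuadraticMap.polarBilin Q' p x) • p := by
    intro x
    rw [show (s₂ : Matrix ι ι F) = (g : Matrix ι ι F) * (gsieg Q (Gi *ᵥ p) (Gi *ᵥ v) hgpQ hgv : Matrix ι ι F) * Gi by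
      simp [s₂, Gi]]
    rw [← mulVec_mulVec, ← mulVec_mulVec, gsieg_mulVec, mulVec_sub, mulVec_sub, mulVec_add, mulVec_smul,
      mulVec_smul, mulVec_smul, hGi, ← moved_polar, ← moved_polar, mul_inv_mulVec, mul_inv_mulVec, mul_inv_mulVec,
      ← hQ', moved_apply]
  clear_value s₁ s₂
  set φ := QuadraticMap.polarBilin Q' u v • B p - B u v • QuadraticMap.polarBilin Q' p
  obtain ⟨b, hb⟩ : ∃ b, ∀ x, B b x = φ x :=
    ⟨(LinearMap.BilinForm.toDual B hQ).symm φ, fun x => LinearMap.BilinForm.apply_toDual_symm_apply (hB := hQ) φ x⟩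
  have hpp : B p p = 0 := by rw [polar_self', hp, mul_zero]
  have hpp' : QuadraticMap.polarBilin Q' p p = 0 := by rw [polar_self', hp', mul_zero]
  have hφ : ∀ x, φ x = QuadraticMap.polarBilin Q' u v * B p x - B u v * QuadraticMap.polarBilin Q' p x :=
    fun x => by simp [φ]
  have hφp : φ p = 0 := by rw [hφ, hpp, hpp']; ring
  have hbne : b ≠ 0 := by
    rintro rfl
    obtain ⟨x, hx⟩ := hne
    rw [← hφ, ← hb] at hx
    simp at hx
  refine ⟨p, b, ⟨by rw [bv_dot, hb, hφp], ?_⟩, hp0, hbne⟩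
  have key : s₁ * s₂ = trGL p (bv Q b) (by rw [bv_dot, hb, hφp]) * (s₂ * s₁) := by
    refine Units.ext (Matrix.ext_iff_mulVec.2 fun x => ?_)
    rw [Units.val_mul, Units.val_mul, Units.val_mul, ← mulVec_mulVec, ← mulVec_mulVec, ← mulVec_mulVec, hm1, hm2,
      trGL_mulVec, hm2, hm1, bv_dot, hb, hφ]
    simp only [map_add, map_sub, map_smul, smul_eq_mul, hpu, hpv, hpu', hpv', hpp, hpp', polar_symm Q u p,
      polar_symm Q' v p, polar_symm Q' v u, mul_zero, add_zero, sub_zero]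
    module
  have e : trGL p (bv Q b) (by rw [bv_dot, hb, hφp]) = s₁ * s₂ * (s₂ * s₁)⁻¹ := by
    rw [key, mul_inv_cancel_right]
  rw [e]
  exact mul_mem (mul_mem hs₁ hs₂) (inv_mem (mul_mem hs₂ hs₁))

/-- The two forms have proportional rows at the common zero. -/
theorem has_of_eigen (hMK : M ≤ Cfsg.Geo.specialLinear ι F) {p : ι → F} (hp0 : p ≠ 0) (hp : Q p = 0)
    (hp' : moved Q g p = 0) {c : F} (hc : ∀ x, QuadraticMap.polarBilin (moved Q g) p x = c * B p x)
    (hgs : ¬ ∃ c : F, ∀ x y, QuadraticMap.polarBilin (moved Q g) x y = c * B x y) :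
    ∃ a b, Has Q M a b ∧ a ≠ 0 ∧ b ≠ 0 := by
  set Q' := moved Q g with hQ'
  obtain ⟨e, hpe⟩ : ∃ e, B p e = 1 := by
    obtain ⟨y, hy⟩ : ∃ y, B p y ≠ 0 := by
      by_contra h; push Not at h; exact hp0 (hQ.1 p h)
    exact ⟨(B p y)⁻¹ • y, by rw [map_smul, smul_eq_mul, inv_mul_cancel₀ hy]⟩
  by_cases hbad : ∃ u v, B p u = 0 ∧ B p v = 0 ∧ QuadraticMap.polarBilin Q' u v ≠ c * B u v
  · obtain ⟨u, v, hu, hv, huv⟩ := hbad
    refine has_of_commutator hQ hH hg hp0 hp hp' hu hv (by rw [hc, hu, mul_zero]) (by rw [hc, hv, mul_zero]) ⟨e, ?_⟩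
    rw [hc, hpe, mul_one, mul_one, mul_comm]
    exact sub_ne_zero.2 huv
  push Not at hbad
  let Δ : (ι → F) →ₗ[F] (ι → F) →ₗ[F] F := QuadraticMap.polarBilin Q' - c • B
  have hΔ : ∀ x y, Δ x y = QuadraticMap.polarBilin Q' x y - c * B x y := fun x y => by simp [Δ]
  set τ := Δ e - (2⁻¹ * Δ e e) • B p with hτ
  obtain ⟨r, hr⟩ : ∃ r, ∀ x, B r x = τ x :=
    ⟨(LinearMap.BilinForm.toDual B hQ).symm τ, fun x => LinearMap.BilinForm.apply_toDual_symm_apply (hB := hQ) τ x⟩
  have hΔf : ∀ x y, Δ x y = B p x * B r y + B r x * B p y := by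
    intro x y
    have hx : B p (x - B p x • e) = 0 := by rw [map_sub, map_smul, hpe, smul_eq_mul, mul_one, sub_self]
    have hy : B p (y - B p y • e) = 0 := by rw [map_sub, map_smul, hpe, smul_eq_mul, mul_one, sub_self]
    have h := hbad _ _ hx hy
    simp only [map_sub, map_smul, LinearMap.sub_apply, LinearMap.smul_apply, smul_eq_mul] at h
    rw [polar_symm Q' x e, polar_symm Q x e] at h
    simp only [hr, hτ, LinearMap.sub_apply, LinearMap.smul_apply, smul_eq_mul, hΔ]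
    field_simp
    linear_combination 2 * h
  have hr0 : r ≠ 0 := by
    rintro rfl
    refine hgs ⟨c, fun x y => ?_⟩
    have h := hΔf x y
    simp only [map_zero, LinearMap.zero_apply, mul_zero, zero_mul, add_zero, hΔ, sub_eq_zero] at h
    exact h
  have hpp : B p p = 0 := by rw [polar_self', hp, mul_zero]
  have hrp : B r p = 0 := by
    have := hΔf p e
    rw [hΔ, hc, sub_self, hpe, mul_one, hpp, zero_mul, zero_add] at this
    exact this.symm
  have hc0 : c ≠ 0 := fun h => hp0 ((moved_nondegenerate hQ g).1 p fun x => by rw [← hQ', hc, h, zero_mul])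
  have hQ'f : ∀ x, Q' x = c * Q x + B p x * B r x := fun x => by
    have := hΔf x x
    rw [hΔ, polar_self', polar_self'] at this
    exact mul_left_cancel₀ h2 (by linear_combination this)
  set v : ι → F := c⁻¹ • r + (-(Q r) / (c * c)) • p with hv
  have hpv : B p v = 0 := by
    rw [hv, map_add, map_smul, map_smul, polar_symm Q p r, hrp, hpp, smul_zero, smul_zero, add_zero]
  have h0 : bv Q p ⬝ᵥ v = 0 := by rw [bv_dot, hpv]
  set t := trGL v (bv Q p) h0
  have hvr : Q v = Q r / (c * c) := by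
    rw [hv, map_add_smul, QuadraticMap.map_smul, hp, map_smul, LinearMap.smul_apply, hrp]
    simp only [smul_eq_mul]
    field_simp
    ring
  have hQt : ∀ x, c * Q ((t : Matrix ι ι F) *ᵥ x) = Q' x := fun x => by
    rw [trGL_mulVec, bv_dot, map_add_smul, hvr, hQ'f, polar_symm Q x v, hv, map_add, map_smul, map_smul,
      LinearMap.add_apply, LinearMap.smul_apply, LinearMap.smul_apply, polar_symm Q r x]
    simp only [smul_eq_mul]
    field_simp
    ring
  have hsim : g⁻¹ * t⁻¹ ∈ M := by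
    refine hH _ c hc0 (mul_mem (inv_mem (hMK hg)) (inv_mem (trGL_mem_sl _ _ _))) fun x => ?_
    rw [Units.val_mul, ← mulVec_mulVec, ← moved_apply, ← hQ', ← hQt, mul_inv_mulVec]
  have ht : t ∈ M := by
    have := mul_mem (inv_mem hsim) (inv_mem hg)
    rwa [_root_.mul_inv_rev, inv_inv, inv_inv, mul_assoc, mul_inv_cancel, mul_one] at this
  refine ⟨v, p, ⟨h0, ht⟩, fun hv0 => ?_, hp0⟩
  rw [hv0, map_zero] at hvr
  have hr' : Q r = 0 := by
    rcases div_eq_zero_iff.1 hvr.symm with h | h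
    · exact h
    · exact absurd h (mul_ne_zero hc0 hc0)
  rw [hv, hr', neg_zero, zero_div, zero_smul, add_zero, smul_eq_zero] at hv0
  exact hr0 (hv0.resolve_left (inv_ne_zero hc0))

omit h2 in
theorem has_of_totally_singular {p w u : ι → F} (h2 : (2 : F) ≠ 0) (hp0 : p ≠ 0) (hp : Q p = 0)
    (hp' : moved Q g p = 0) (hw : Q w = 0) (hw' : moved Q g w = 0) (hpw : B p w = 0)
    (hpw' : QuadraticMap.polarBilin (moved Q g) p w = 0) (hpu : B p u = 0)
    (hu' : QuadraticMap.polarBilin (moved Q g) p u ≠ 0) (huw : B u w ≠ 0) :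
    ∃ a b, Has Q M a b ∧ a ≠ 0 ∧ b ≠ 0 := by
  set Q' := moved Q g with hQ'
  set Gi := ((g⁻¹ : GL ι F) : Matrix ι ι F) with hGi
  have hgpQ : Q (Gi *ᵥ p) = 0 := hp'
  have hgw : B (Gi *ᵥ p) (Gi *ᵥ w) = 0 := by rw [← moved_polar]; exact hpw'
  have hpnu : B p (-u) = 0 := by rw [map_neg, hpu, neg_zero]
  set s := gsieg Q p u hp hpu
  set si := gsieg Q p (-u) hp hpnu
  set s₂ := g * gsieg Q (Gi *ᵥ p) (Gi *ᵥ w) hgpQ hgw * g⁻¹
  have hs : s ∈ M := hH.gsieg_mem hp hpu
  have hsi : si ∈ M := hH.gsieg_mem hp hpnu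
  have hs₂ : s₂ ∈ M := mul_mem (mul_mem hg (hH.gsieg_mem hgpQ hgw)) (inv_mem hg)
  have hm : ∀ x, (s : Matrix ι ι F) *ᵥ x = x + B p x • u - B u x • p - (Q u * B p x) • p := gsieg_mulVec hp hpu
  have hmi : ∀ x, (si : Matrix ι ι F) *ᵥ x = x - B p x • u + B u x • p - (Q u * B p x) • p := fun x => by
    rw [gsieg_mulVec hp hpnu, QuadraticMap.map_neg, map_neg, LinearMap.neg_apply]
    module
  have hm2 : ∀ x, (s₂ : Matrix ι ι F) *ᵥ x = x + QuadraticMap.polarBilin Q' p x • w -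
      QuadraticMap.polarBilin Q' w x • p := by
    intro x
    rw [show (s₂ : Matrix ι ι F) = (g : Matrix ι ι F) * (gsieg Q (Gi *ᵥ p) (Gi *ᵥ w) hgpQ hgw : Matrix ι ι F) * Gi by
      simp [s₂, Gi]]
    rw [← mulVec_mulVec, ← mulVec_mulVec, gsieg_mulVec, mulVec_sub, mulVec_sub, mulVec_add, mulVec_smul,
      mulVec_smul, mulVec_smul, hGi, ← moved_polar, ← moved_polar, mul_inv_mulVec, mul_inv_mulVec, mul_inv_mulVec,
      ← moved_apply, ← hQ', hw', zero_mul, zero_smul, sub_zero]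
  clear_value s si s₂
  set κ := 2 * QuadraticMap.polarBilin Q' p u * B u w with hκ
  have hpp : B p p = 0 := by rw [polar_self', hp, mul_zero]
  have hpp' : QuadraticMap.polarBilin Q' p p = 0 := by rw [polar_self', hp', mul_zero]
  have hww' : QuadraticMap.polarBilin Q' w w = 0 := by rw [polar_self', hw', mul_zero]
  have hup : B u p = 0 := by rw [polar_symm, hpu]
  have hwp' : QuadraticMap.polarBilin Q' w p = 0 := by rw [polar_symm, hpw']
  have h0 : bv Q (κ • p) ⬝ᵥ p = 0 := by rw [bv_dot, map_smul, LinearMap.smul_apply, hpp, smul_zero]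
  refine ⟨p, κ • p, ⟨h0, ?_⟩, hp0, smul_ne_zero (mul_ne_zero (mul_ne_zero h2 hu') huw) hp0⟩
  have key : s * s₂ * si * (si * s₂ * s) = trGL p (bv Q (κ • p)) h0 * (s₂ * s₂) := by
    refine Units.ext (Matrix.ext_iff_mulVec.2 fun x => ?_)
    simp only [Units.val_mul, ← mulVec_mulVec]
    rw [hm x, hm2, hmi, hmi, hm2, hm, trGL_mulVec, hm2 x, hm2, bv_dot, hκ]
    simp only [map_add, map_sub, map_smul, LinearMap.smul_apply, smul_eq_mul, hpu, hup, hpw, hpw', hpp, hpp',
      hwp', hww', polar_self' Q u, mul_zero, add_zero, sub_zero, zero_add]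
    module
  have e : trGL p (bv Q (κ • p)) h0 = s * s₂ * si * (si * s₂ * s) * (s₂ * s₂)⁻¹ := by
    rw [key, mul_inv_cancel_right]
  rw [e]
  exact mul_mem (mul_mem (mul_mem (mul_mem hs hs₂) hsi) (mul_mem (mul_mem hsi hs₂) hs))
    (inv_mem (mul_mem hs₂ hs₂))

/-- A common zero of the two forms gives a transvection. -/
theorem has_of_common (hn : Fintype.card ι = 4) (hMK : M ≤ Cfsg.Geo.specialLinear ι F) {p : ι → F} (hp0 : p ≠ 0)
    (hp : Q p = 0) (hp' : moved Q g p = 0)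
    (hgs : ¬ ∃ c : F, ∀ x y, QuadraticMap.polarBilin (moved Q g) x y = c * B x y) :
    ∃ a b, Has Q M a b ∧ a ≠ 0 ∧ b ≠ 0 := by
  classical
  set Q' := moved Q g with hQ'
  by_cases hc : ∃ c : F, ∀ x, QuadraticMap.polarBilin Q' p x = c * B p x
  · obtain ⟨c, hc⟩ := hc
    exact has_of_eigen hQ h2 hH hg hMK hp0 hp hp' hc hgs
  push Not at hc
  set W := SimMax.perp Q ![p] ⊓ SimMax.perp Q' ![p] with hW
  have hWm : ∀ {x}, x ∈ W ↔ B p x = 0 ∧ QuadraticMap.polarBilin Q' p x = 0 := fun {x} => by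
    simp [hW, SimMax.mem_perp, Fin.forall_fin_one]
  obtain ⟨y, hy⟩ : ∃ y, B p y ≠ 0 := by
    by_contra h; push Not at h; exact hp0 (hQ.1 p h)
  by_cases hex : ∃ x ∈ W, B x x ≠ 0 ∨ QuadraticMap.polarBilin Q' x x ≠ 0
  · obtain ⟨x, hx, hxx⟩ := hex
    rw [hWm] at hx
    refine has_of_commutator hQ hH hg hp0 hp hp' hx.1 hx.1 hx.2 hx.2 ?_
    by_cases h : B x x = 0
    · exact ⟨y, by rw [h, zero_mul, sub_zero]; exact mul_ne_zero (hxx.resolve_left (not_not.2 h)) hy⟩
    · obtain ⟨z, hz⟩ := hc (QuadraticMap.polarBilin Q' x x / B x x)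
      refine ⟨z, fun e => hz ?_⟩
      rw [div_mul_eq_mul_div, eq_div_iff h]
      linear_combination -e
  push Not at hex
  obtain ⟨w, hw, hwn⟩ : ∃ w ∈ W, w ∉ Submodule.span F {p} := by
    refine SetLike.not_le_iff_exists.1 fun hle => ?_
    have h1 := (Submodule.finrank_mono hle).trans_eq (finrank_span_singleton hp0)
    have h3 := Submodule.finrank_sup_add_finrank_inf_eq (SimMax.perp Q ![p]) (SimMax.perp Q' ![p])
    have := SimMax.finrank_perp_ge Q ![p]
    have := SimMax.finrank_perp_ge Q' ![p]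
    have := Submodule.finrank_le (SimMax.perp Q ![p] ⊔ SimMax.perp Q' ![p])
    have h5 : finrank F ↥(SimMax.perp Q ![p] ⊓ SimMax.perp Q' ![p]) = finrank F W := rfl
    rw [Module.finrank_fintype_fun_eq_card, hn] at *
    omega
  obtain ⟨hw1, hw2⟩ := hex w hw
  rw [hWm] at hw
  have hsing : ∀ {R : QuadraticForm F (ι → F)} {x}, QuadraticMap.polarBilin R x x = 0 → R x = 0 := fun {R x} h => by
    rw [polar_self'] at h; exact (mul_eq_zero.1 h).resolve_left h2
  have hex1 : ∃ u, B p u = 0 ∧ QuadraticMap.polarBilin Q' p u ≠ 0 := by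
    by_contra hall
    push Not at hall
    obtain ⟨z, hz⟩ := hc (QuadraticMap.polarBilin Q' p y / B p y)
    refine hz ?_
    have h := hall (z - (B p z / B p y) • y) (by rw [map_sub, map_smul, smul_eq_mul, div_mul_cancel₀ _ hy, sub_self])
    rw [map_sub, map_smul, smul_eq_mul, sub_eq_zero] at h
    rw [h]; field_simp
  have hex2 : ∃ u, B p u = 0 ∧ B u w ≠ 0 := by
    by_contra hall
    push Not at hall
    refine hwn (Submodule.mem_span_singleton.2 ⟨B y w / B p y, (sub_eq_zero.1 (hQ.1 _ fun z => ?_)).symm⟩)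
    have h := hall (z - (B p z / B p y) • y) (by rw [map_sub, map_smul, smul_eq_mul, div_mul_cancel₀ _ hy, sub_self])
    rw [map_sub, LinearMap.sub_apply, map_smul, LinearMap.smul_apply, smul_eq_mul, sub_eq_zero,
      polar_symm Q z w] at h
    rw [map_sub, LinearMap.sub_apply, map_smul, LinearMap.smul_apply, smul_eq_mul, h]
    field_simp
    ring
  obtain ⟨u, hpu, hu', huw⟩ : ∃ u, B p u = 0 ∧ QuadraticMap.polarBilin Q' p u ≠ 0 ∧ B u w ≠ 0 := by
    obtain ⟨u₁, h11, h12⟩ := hex1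
    obtain ⟨u₂, h21, h22⟩ := hex2
    by_cases ha : B u₁ w = 0
    swap
    · exact ⟨u₁, h11, h12, ha⟩
    by_cases hb : QuadraticMap.polarBilin Q' p u₂ = 0
    swap
    · exact ⟨u₂, h21, hb, h22⟩
    refine ⟨u₁ + u₂, by rw [map_add, h11, h21, add_zero], ?_, ?_⟩
    · rwa [map_add, hb, add_zero]
    · rwa [map_add, LinearMap.add_apply, ha, zero_add]
  exact has_of_totally_singular hQ hH hg h2 hp0 hp hp' (hsing hw1) (hsing hw2) hw.1 hw.2 hpu hu' huw

/-- A non-similarity gives a transvection. -/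
theorem exists_has (hn : Fintype.card ι = 4) (hMK : M ≤ Cfsg.Geo.specialLinear ι F)
    (hgs : ¬ ∃ c : F, ∀ x y, QuadraticMap.polarBilin (moved Q g) x y = c * B x y) :
    ∃ a b, Has Q M a b ∧ a ≠ 0 ∧ b ≠ 0 := by
  classical
  by_cases hcom : ∃ p, p ≠ 0 ∧ Q p = 0 ∧ moved Q g p = 0
  · obtain ⟨p, h0, h1, h1'⟩ := hcom
    exact has_of_common hQ h2 hH hg hn hMK h0 h1 h1' hgs
  push Not at hcom
  obtain ⟨p, -, hp0, hp⟩ := SimMax.exists_singular_of_three (Q := Q) h2 (U := (⊤ : Submodule F (ι → F)))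
    (by rw [finrank_top, Module.finrank_fintype_fun_eq_card]; omega)
  have hp' := hcom p hp0 hp
  have hBp : B p ≠ 0 := fun h => hp0 (hQ.1 p fun z => by rw [h]; rfl)
  obtain ⟨x, y, hx, hy, hpx, hpy, hxy, hval⟩ :=
    exists_two_zeros (moved_nondegenerate hQ g) h2 hn hBp (fun z => Q z)
  set u := y - x with hu
  have hpu : B p u = 0 := by rw [hu, map_sub, hpx, hpy, sub_self]
  set s := gsieg Q p u hp hpu
  have hsx : (s : Matrix ι ι F) *ᵥ x = y := by
    have e : Q u + B u x = 0 := by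
      have h := map_add_smul Q x u 1
      rw [one_smul, show x + u = y by rw [hu]; abel, polar_symm Q x u] at h
      linear_combination -h - hval
    rw [gsieg_mulVec hp hpu, hpx, one_smul, mul_one]
    calc x + u - B u x • p - Q u • p = x + u - (Q u + B u x) • p := by module
      _ = y := by rw [e, zero_smul, sub_zero, hu]; abel
  have hg' : g⁻¹ * s * g ∈ M := mul_mem (mul_mem (inv_mem hg) (hH.gsieg_mem hp hpu)) hg
  have hinv : ∀ a, (((g⁻¹ * s * g)⁻¹ : GL ι F) : Matrix ι ι F) *ᵥ a =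
      ((g⁻¹ : GL ι F) : Matrix ι ι F) *ᵥ (((s⁻¹ : GL ι F) : Matrix ι ι F) *ᵥ ((g : Matrix ι ι F) *ᵥ a)) := fun a => by
    rw [_root_.mul_inv_rev, _root_.mul_inv_rev, inv_inv, Units.val_mul, Units.val_mul, ← mulVec_mulVec, ← mulVec_mulVec]
  refine has_of_common hQ h2 hH hg' hn hMK (p := ((g⁻¹ : GL ι F) : Matrix ι ι F) *ᵥ y) ?_ hy ?_ ?_
  · intro e
    have e' : y = 0 := by rw [← mul_inv_mulVec g y, e, mulVec_zero]
    rw [e', map_zero] at hpy
    exact zero_ne_one hpy
  · rw [moved_apply, hinv, mul_inv_mulVec, ← hsx, inv_mul_mulVec]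
    exact hx
  rintro ⟨c, hc⟩
  -- the two forms are related by `s`
  have hrel : ∀ a b, QuadraticMap.polarBilin (moved Q g) a b =
      c * QuadraticMap.polarBilin (moved Q g) ((s : Matrix ι ι F) *ᵥ a) ((s : Matrix ι ι F) *ᵥ b) := fun a b => by
    have h := hc (((g⁻¹ : GL ι F) : Matrix ι ι F) *ᵥ ((s : Matrix ι ι F) *ᵥ a))
      (((g⁻¹ : GL ι F) : Matrix ι ι F) *ᵥ ((s : Matrix ι ι F) *ᵥ b))
    rw [moved_polar (g⁻¹ * s * g), hinv, hinv, mul_inv_mulVec, mul_inv_mulVec, inv_mul_mulVec, inv_mul_mulVec] at h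
    rw [moved_polar, h, moved_polar]
  have hpp : B p p = 0 := by rw [polar_self', hp, mul_zero]
  have hsp : (s : Matrix ι ι F) *ᵥ p = p := by
    rw [gsieg_mulVec hp hpu, hpp, polar_symm Q u p, hpu]; simp
  have hpp' : QuadraticMap.polarBilin (moved Q g) p p ≠ 0 := by
    rw [polar_self']; exact mul_ne_zero h2 hp'
  have hc1 : c = 1 := by
    have := hrel p p
    rw [hsp] at this
    exact mul_right_cancel₀ hpp' (by linear_combination -this)
  have hperp : ∀ z, B p z = 0 → B u z = 0 := fun z hz => by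
    have h := hrel z p
    rw [hc1, one_mul, hsp, gsieg_mulVec hp hpu, hz] at h
    simp only [zero_smul, add_zero, mul_zero, sub_zero, map_sub, map_smul, LinearMap.sub_apply,
      LinearMap.smul_apply, smul_eq_mul] at h
    exact (mul_eq_zero.1 (show B u z * QuadraticMap.polarBilin (moved Q g) p p = 0 by linear_combination h)).resolve_right
      hpp'
  have hup : u = B u x • p := sub_eq_zero.1 (hQ.1 _ fun z => by
    have h := hperp (z - B p z • x) (by rw [map_sub, map_smul, hpx, smul_eq_mul, mul_one, sub_self])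
    rw [map_sub, map_smul, smul_eq_mul] at h
    rw [map_sub, LinearMap.sub_apply, map_smul, LinearMap.smul_apply, smul_eq_mul]
    linear_combination h)
  refine hxy ?_
  have h := map_add_smul Q x p (B u x)
  rw [← hup, show x + u = y by rw [hu]; abel, hp, polar_symm Q x p, hpx] at h
  have e0 : B u x = 0 := by linear_combination -hval - h
  rw [e0, zero_smul, hu, sub_eq_zero] at hup
  exact hup.symm

end CfsgLib.Classical.GeoFour.OrthFour
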