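import Cfsg.Agent.Lib.Classical.GeoFour.Full

/-!
# Siegel elements in a subgroup containing the similarities of determinant one
-/

set_option autoImplicit false
set_option linter.unusedSectionVars false
set_option backward.isDefEq.respectTransparency false

open Module Matrix

namespace CfsgLib.Classical.GeoFour.OrthFour

open SimMax (polar_symm polar_self' map_add_smul gsieg gsieg_mulVec bv bv_dot Has)

variable {ι : Type} [Fintype ι] [DecidableEq ι] {F : Type*} [Field F] [Fintype F]
variable {Q : QuadraticForm F (ι → F)}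

local notation "B" => QuadraticMap.polarBilin Q

variable (Q) in
/-- The subgroup contains all similarities of determinant one. -/
def SimMem (M : Subgroup (GL ι F)) : Prop :=
  ∀ (s : GL ι F) (c : F), c ≠ 0 → s ∈ Cfsg.Geo.specialLinear ι F →
    (∀ x, Q ((s : Matrix ι ι F) *ᵥ x) = c * Q x) → s ∈ M

theorem gsieg_isometry {d u : ι → F} (hd : Q d = 0) (hdu : B d u = 0) (x : ι → F) :
    Q ((gsieg Q d u hd hdu : Matrix ι ι F) *ᵥ x) = Q x := by
  rw [gsieg_mulVec hd hdu, show x + B d x • u - B u x • d - (Q u * B d x) • d =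
    (x + B d x • u) + (-B u x - Q u * B d x) • d by module, map_add_smul, map_add_smul, hd, map_add, map_smul,
    LinearMap.add_apply, LinearMap.smul_apply, polar_symm Q x d, polar_symm Q u d, hdu, polar_symm Q x u]
  simp only [smul_eq_mul]
  ring

theorem gsieg_mem_sl {d u : ι → F} (hd : Q d = 0) (hdu : B d u = 0) :
    gsieg Q d u hd hdu ∈ Cfsg.Geo.specialLinear ι F :=
  mul_mem (SimMax.sieg_mem_sl Q hdu) (trGL_mem_sl _ _ _)

theorem SimMem.gsieg_mem {M : Subgroup (GL ι F)} (hH : SimMem Q M) {d u : ι → F} (hd : Q d = 0) (hdu : B d u = 0) :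
    gsieg Q d u hd hdu ∈ M :=
  hH _ 1 one_ne_zero (gsieg_mem_sl hd hdu) fun x => by rw [gsieg_isometry, one_mul]

theorem gsieg_map_has {M : Subgroup (GL ι F)} (hH : SimMem Q M) {a b d u : ι → F} (h : Has Q M a b) (hd : Q d = 0)
    (hdu : B d u = 0) :
    Has Q M (a + B d a • u - B u a • d - (Q u * B d a) • d) (b + B d b • u - B u b • d - (Q u * B d b) • d) := by
  have := h.map (hH.gsieg_mem hd hdu) (SimMax.isometry_polar Q (gsieg_isometry hd hdu))
  rwa [gsieg_mulVec hd hdu, gsieg_mulVec hd hdu] at this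

variable (hQ : (QuadraticMap.polarBilin Q).Nondegenerate) (h2 : (2 : F) ≠ 0)
include hQ h2

/-- A singular vector not orthogonal to a given nonzero one, inside a subspace of the whole space. -/
theorem exists_singular_pair (hn : 3 ≤ Fintype.card ι) {a : ι → F} (ha : a ≠ 0) :
    ∃ d, Q d = 0 ∧ B a d = 1 := by
  obtain ⟨y, hy⟩ : ∃ y, B a y ≠ 0 := by
    by_contra hc; push Not at hc; exact ha (hQ.1 a hc)
  obtain ⟨d, -, hdQ, hda⟩ := SimMax.exists_singular_outside hQ h2 (U := (⊤ : Submodule F (ι → F)))
    (by rw [finrank_top, Module.finrank_fintype_fun_eq_card]; omega) (f := B a) ⟨y, trivial, hy⟩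
  exact ⟨(B a d)⁻¹ • d, by rw [QuadraticMap.map_smul, hdQ, smul_zero],
    by rw [map_smul, smul_eq_mul, inv_mul_cancel₀ hda]⟩

omit hQ in
/-- A totally singular subspace lies in its perpendicular space. -/
theorem polar_eq_zero_of_singular {W : Submodule F (ι → F)} (hW : ∀ x ∈ W, Q x = 0) {x y : ι → F} (hx : x ∈ W)
    (hy : y ∈ W) : B x y = 0 := by
  rw [QuadraticMap.polarBilin_apply_apply, QuadraticMap.polar, hW _ (W.add_mem hx hy), hW _ hx, hW _ hy]
  ring


/-- In the space perpendicular to a singular vector there are non-singular vectors. -/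
theorem exists_perp_aniso (hn : 3 ≤ Fintype.card ι) {d : ι → F} (hd0 : d ≠ 0) :
    ∃ u, B d u = 0 ∧ Q u ≠ 0 := by
  by_contra hc
  push Not at hc
  have hle : SimMax.perp Q ![d] ≤ LinearMap.BilinForm.orthogonal B (SimMax.perp Q ![d]) := fun x hx y hy =>
    polar_eq_zero_of_singular h2 (W := SimMax.perp Q ![d])
      (fun z hz => hc z (by simpa using (SimMax.mem_perp Q).1 hz 0)) hy hx
  have h1 := Submodule.finrank_mono hle
  rw [LinearMap.BilinForm.finrank_orthogonal hQ] at h1
  have := SimMax.finrank_perp_ge Q ![d]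
  rw [Module.finrank_fintype_fun_eq_card] at this h1
  omega

end CfsgLib.Classical.GeoFour.OrthFour
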