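import Cfsg.Agent.Lib.Classical.GeoFour.OrthFour.Basic

/-!
# Two zeros of one form in an affine hyperplane with equal values of another
-/

set_option autoImplicit false
set_option linter.unusedSectionVars false
set_option backward.isDefEq.respectTransparency false

open Module Matrix

namespace CfsgLib.Classical.GeoFour.OrthFour

open SimMax (polar_symm polar_self' map_add_smul)

variable {ι : Type} [Fintype ι] [DecidableEq ι] {F : Type*} [Field F] [Fintype F]
variable {R : QuadraticForm F (ι → F)}

local notation "B" => QuadraticMap.polarBilin R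

omit [Fintype F] in
theorem card_roots_le_two [Fintype F] [DecidableEq F] {c₂ : F} (hc : c₂ ≠ 0) (c₁ c₀ : F) :
    (Finset.univ.filter fun t : F => c₂ * t * t + c₁ * t + c₀ = 0).card ≤ 2 := by
  set T := Finset.univ.filter fun t : F => c₂ * t * t + c₁ * t + c₀ = 0
  rcases T.eq_empty_or_nonempty with h | ⟨t₁, ht₁⟩
  · simp [h]
  refine le_trans (Finset.card_le_card (t := {t₁, -(c₁ / c₂) - t₁}) fun t ht => ?_) Finset.card_le_two
  simp only [T, Finset.mem_filter, Finset.mem_univ, true_and] at ht ht₁
  simp only [Finset.mem_insert, Finset.mem_singleton]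
  rcases mul_eq_zero.1 (show (t - t₁) * (c₂ * (t + t₁) + c₁) = 0 by linear_combination ht - ht₁) with h | h
  · exact Or.inl (sub_eq_zero.1 h)
  · refine Or.inr ?_
    field_simp
    linear_combination h

/-- A non-degenerate form on a four-dimensional space has two zeros in any affine hyperplane where a
second function takes equal values. -/
theorem exists_two_zeros (hR : (QuadraticMap.polarBilin R).Nondegenerate) (h2 : (2 : F) ≠ 0)
    (hn : Fintype.card ι = 4) {f : (ι → F) →ₗ[F] F} (hf : f ≠ 0) (val : (ι → F) → F) :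
    ∃ x y, R x = 0 ∧ R y = 0 ∧ f x = 1 ∧ f y = 1 ∧ x ≠ y ∧ val x = val y := by
  classical
  have hq : 3 ≤ Fintype.card F := by
    by_contra hlt
    have := Fintype.one_lt_card (α := F)
    obtain ⟨a, ha⟩ : ∃ a : F, a ∉ ({0, 1} : Finset F) :=
      ⟨2, by simp [h2, show (2 : F) ≠ 1 from fun e => one_ne_zero (α := F) (by linear_combination e)]⟩
    have := Finset.card_le_univ (insert a ({0, 1} : Finset F))
    rw [Finset.card_insert_of_notMem ha, Finset.card_pair zero_ne_one] at this
    omega
  obtain ⟨y₀, hy₀⟩ : ∃ y, f y ≠ 0 := by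
    by_contra hc; push Not at hc; exact hf (LinearMap.ext hc)
  obtain ⟨z, -, hzR, hfz⟩ := SimMax.exists_singular_outside hR h2 (U := (⊤ : Submodule F (ι → F)))
    (by rw [finrank_top, Module.finrank_fintype_fun_eq_card]; omega) (f := f) ⟨y₀, trivial, hy₀⟩
  set z₀ := (f z)⁻¹ • z with hz₀
  have hz₀R : R z₀ = 0 := by rw [hz₀, QuadraticMap.map_smul, hzR, smul_zero]
  have hfz₀ : f z₀ = 1 := by rw [hz₀, map_smul, smul_eq_mul, inv_mul_cancel₀ hfz]
  clear_value z₀
  have hz₀0 : z₀ ≠ 0 := fun e => one_ne_zero (α := F) (by rw [← hfz₀, e, map_zero])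
  obtain ⟨w, hwR, hzw⟩ := exists_singular_pair hR h2 (by omega) hz₀0
  set A := SimMax.perp R ![z₀, w]
  have hA : ∀ {a}, a ∈ A ↔ B z₀ a = 0 ∧ B w a = 0 := fun {a} => by
    simp [A, SimMax.mem_perp, Fin.forall_fin_two]
  have hzz : B z₀ z₀ = 0 := by rw [polar_self', hz₀R, mul_zero]
  have hww : B w w = 0 := by rw [polar_self', hwR, mul_zero]
  have hwz : B w z₀ = 1 := by rw [polar_symm, hzw]
  have hAdim : 2 ≤ finrank F A := by
    have := SimMax.finrank_perp_ge R ![z₀, w]
    rw [Module.finrank_fintype_fun_eq_card, hn] at this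
    change 2 ≤ finrank F (SimMax.perp R ![z₀, w])
    omega
  obtain ⟨e₁, he₁, he₁R⟩ : ∃ e ∈ A, R e ≠ 0 := by
    by_contra hc
    push Not at hc
    have : A ≤ ⊥ := fun e he => (Submodule.mem_bot F).2 (hR.1 e fun y => by
      have hy' : y - B w y • z₀ - B z₀ y • w ∈ A := hA.2 ⟨by
        rw [map_sub, map_sub, map_smul, map_smul, hzz, hzw, smul_eq_mul, smul_eq_mul]; ring, by
        rw [map_sub, map_sub, map_smul, map_smul, hww, hwz, smul_eq_mul, smul_eq_mul]; ring⟩
      have h0 := polar_eq_zero_of_singular h2 (W := A) hc he hy'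
      rw [map_sub, map_sub, map_smul, map_smul, polar_symm R e z₀, (hA.1 he).1, polar_symm R e w, (hA.1 he).2,
        smul_zero, smul_zero, sub_zero, sub_zero] at h0
      exact h0)
    have := Submodule.finrank_mono this
    rw [finrank_bot] at this
    omega
  obtain ⟨e₂, he₂, he₂n⟩ : ∃ e ∈ A, e ∉ Submodule.span F {e₁} := by
    refine SetLike.not_le_iff_exists.1 fun hle => ?_
    have h1 := (Submodule.finrank_mono hle).trans_eq (finrank_span_singleton (fun h : e₁ = 0 => he₁R (by simp [h])))
    omega
  let av : F × F → ι → F := fun p => p.1 • e₂ + p.2 • e₁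
  have hav : ∀ p, B z₀ (av p) = 0 ∧ B w (av p) = 0 := fun p =>
    hA.1 (A.add_mem (A.smul_mem _ he₂) (A.smul_mem _ he₁))
  have hinj : Function.Injective av := by
    rintro ⟨s, t⟩ ⟨s', t'⟩ e
    have e' : (s - s') • e₂ = (t' - t) • e₁ := by
      simp only [av] at e
      rw [sub_smul, sub_smul, sub_eq_sub_iff_add_eq_add, e, add_comm]
    by_cases hs : s = s'
    · subst hs
      rw [sub_self, zero_smul, eq_comm, smul_eq_zero] at e'
      rcases e' with h | h
      · rw [sub_eq_zero] at h; rw [h]
      · exact absurd (by simp [h]) he₁R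
    · refine absurd ?_ he₂n
      refine Submodule.mem_span_singleton.2 ⟨(s - s')⁻¹ * (t' - t), ?_⟩
      rw [mul_smul, ← e', inv_smul_smul₀ (sub_ne_zero.2 hs)]
  let φ : F × F → F := fun p => f w + f (av p) - R (av p)
  let ζ : F × F → ι → F := fun p => (φ p)⁻¹ • (w + av p + (-R (av p)) • z₀)
  let T : Finset (F × F) := Finset.univ.filter fun p => φ p ≠ 0
  have hT : Fintype.card F * (Fintype.card F - 2) ≤ T.card := by
    have hdis : T = Finset.univ.biUnion fun s : F => (Finset.univ.filter fun t : F => φ (s, t) ≠ 0).image (Prod.mk s) := by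
      ext ⟨s, t⟩
      simp [T]
    rw [hdis, Finset.card_biUnion, ← Finset.card_univ]
    · refine le_trans (le_of_eq ?_) (Finset.card_nsmul_le_sum _ _ (Fintype.card F - 2) fun s _ => ?_)
      · rw [smul_eq_mul, Finset.card_univ]
      · rw [Finset.card_image_of_injective _ (Prod.mk_right_injective s)]
        have h1 := Finset.card_filter_add_card_filter_not (s := (Finset.univ : Finset F)) fun t => φ (s, t) = 0
        have h3 : (Finset.univ.filter fun t : F => φ (s, t) = 0).card ≤ 2 := by
          convert card_roots_le_two (c₂ := -R e₁) (neg_ne_zero.2 he₁R) (f e₁ - s * B e₂ e₁)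
            (f w + s * f e₂ - s * s * R e₂) using 4 with t
          simp only [φ, av, map_add, map_smul, smul_eq_mul, map_add_smul, QuadraticMap.map_smul, LinearMap.smul_apply]
          ring
        rw [Finset.card_univ] at h1
        simp only [ne_eq] at *
        omega
    · intro s _ s' _ hss
      simp only [Finset.disjoint_left, Finset.mem_image]
      rintro _ ⟨t, -, rfl⟩ ⟨t', -, e⟩
      exact hss (congrArg Prod.fst e).symm
  have hφT : ∀ p ∈ T, φ p ≠ 0 := fun p hp => (Finset.mem_filter.1 hp).2
  have hBζ : ∀ p, B z₀ (ζ p) = (φ p)⁻¹ := fun p => by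
    simp only [ζ, map_smul, map_add, (hav p).1, hzw, hzz, smul_eq_mul]
    ring
  have hζinj : Set.InjOn ζ T := by
    intro p hp p' hp' e
    have h1 := congrArg (B z₀) e
    rw [hBζ, hBζ, _root_.inv_inj] at h1
    simp only [ζ, h1] at e
    have e' := smul_right_injective (ι → F) (inv_ne_zero (hφT p' hp')) e
    have h3 : R (av p) = R (av p') := by
      have ha := (hav p).2
      have ha' := (hav p').2
      generalize av p = a at ha e' ⊢
      generalize av p' = a' at ha' e' ⊢
      have := congrArg (B w) e'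
      rw [map_add, map_add, map_add, map_add, map_smul, map_smul, ha, ha', hwz, hww, smul_eq_mul,
        smul_eq_mul] at this
      linear_combination -this
    rw [h3] at e'
    exact hinj (add_left_cancel (add_right_cancel e'))
  let S : Finset (ι → F) := insert z₀ (T.image ζ)
  have hzero : ∀ x ∈ S, R x = 0 ∧ f x = 1 := by
    intro x hx
    rcases Finset.mem_insert.1 hx with rfl | hx
    · exact ⟨hz₀R, hfz₀⟩
    obtain ⟨p, hp, rfl⟩ := Finset.mem_image.1 hx
    refine ⟨?_, ?_⟩
    · have e : R (w + av p + (-R (av p)) • z₀) = 0 := by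
        obtain ⟨ha1, ha2⟩ := hav p
        generalize av p = a at ha1 ha2 ⊢
        have e1 : R (w + a) = R a := by
          have := map_add_smul R w a 1
          rw [one_smul, hwR, ha2] at this
          rw [this]; ring
        rw [map_add_smul, hz₀R, e1, map_add, LinearMap.add_apply, hwz, polar_symm R a z₀, ha1]
        ring
      simp only [ζ, QuadraticMap.map_smul, e, smul_zero]
    · simp only [ζ, map_smul, map_add, hfz₀, smul_eq_mul, mul_one, ← sub_eq_add_neg]
      exact inv_mul_cancel₀ (hφT p hp)
  have hcard : Fintype.card F < S.card := by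
    rw [Finset.card_insert_of_notMem, Finset.card_image_of_injOn hζinj]
    · have : Fintype.card F * 1 ≤ Fintype.card F * (Fintype.card F - 2) := Nat.mul_le_mul_left _ (by omega)
      omega
    · intro hc
      obtain ⟨p, hp, e⟩ := Finset.mem_image.1 hc
      have := hBζ p
      rw [e, hzz] at this
      exact inv_ne_zero (hφT p hp) this.symm
  obtain ⟨x, hx, y, hy, hxy, hval⟩ := Finset.exists_ne_map_eq_of_card_lt_of_maps_to
    (s := S) (t := Finset.univ) (by rwa [Finset.card_univ]) (f := val) fun _ _ => Finset.mem_univ _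
  exact ⟨x, y, (hzero x hx).1, (hzero y hy).1, (hzero x hx).2, (hzero y hy).2, hxy, hval⟩

end CfsgLib.Classical.GeoFour.OrthFour
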